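import Mathlib.CategoryTheory.Triangulated.TStructure.TruncLEGT
import Mathlib.CategoryTheory.Triangulated.TStructure.Heart
import Mathlib.CategoryTheory.Triangulated.Subcategory
import Mathlib.CategoryTheory.Triangulated.Functor
import Mathlib.CategoryTheory.Localization.Predicate

/-!
# The t-structure induced on a Verdier quotient
-/

set_option autoImplicit false
set_option linter.style.haveILetI false
set_option backward.isDefEq.respectTransparency false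
set_option backward.isDefEq.respectTransparency.types false

universe v v' u u'

open CategoryTheory Category Limits Pretriangulated Triangulated

namespace Groth.Agent.QuotT

variable {C : Type u} [Category.{v} C] [Preadditive C] [HasZeroObject C] [HasShift C ℤ]
  [∀ n : ℤ, (shiftFunctor C n).Additive] [Pretriangulated C] [IsTriangulated C]
  (t : TStructure C) (hb : ∀ X : C, t.bounded X)
  (D : ObjectProperty C) [D.IsTriangulated] [D.IsClosedUnderIsomorphisms]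
  (h1 : ∀ X : C, D X → ∀ n : ℤ, D ((t.truncGELE n n).obj X))
  (h2 : ∀ (X Y Z : C) (f : X ⟶ Y) (g : Y ⟶ Z) (h : Z ⟶ X⟦(1 : ℤ)⟧),
    Triangle.mk f g h ∈ distTriang C → t.heart X → t.heart Y → t.heart Z → D Y → D X ∧ D Z)

omit [D.IsTriangulated] [IsTriangulated C] in
lemma isGE_heart {X : C} (h₁ : t.IsLE X 0) (h₂ : t.IsGE X 0) : t.heart X :=
  (t.mem_heart_iff X).2 ⟨h₁, h₂⟩

include hb h1 in
/-- `D` is stable under truncation -/
lemma truncGE_mem (n : ℤ) {K : C} (hK : D K) : D ((t.truncGE n).obj K) := by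
  obtain ⟨-, b, hKb⟩ := hb K
  suffices ∀ (j : ℕ) (n : ℤ), b + 1 - n ≤ (j : ℤ) → D ((t.truncGE n).obj K) from
    this (b + 1 - n).toNat n (by omega)
  intro j
  induction j with
  | zero =>
    intro n hn
    have := t.isLE_of_le K b (n - 1) (by omega)
    exact D.prop_of_isZero (t.isZero_truncGE_obj_of_isLE (n - 1) n (by omega) K)
  | succ j ih =>
    intro n hn
    have hT := t.triangleLEGE_distinguished n (n + 1) rfl ((t.truncGE n).obj K)
    refine D.ext_of_isTriangulatedClosed₂ _ hT ?_ ?_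
    · exact D.prop_of_iso ((t.truncGELEIsoLEGE n n).app K) (h1 K hK n)
    · haveI := t.isIso_truncGE_map_truncGEπ_app (n + 1) n (by omega) K
      exact D.prop_of_iso (asIso ((t.truncGE (n + 1)).map ((t.truncGEπ n).app K))) (ih (n + 1) (by omega))

include hb h1 h2 in
/-- the nonnegative truncation of the cone of a map from `≤ 0` into `D` in degrees `≥ 0` is in `D` -/
lemma truncGE_cone_mem {X L W : C} [t.IsLE X 0] [t.IsGE L 0] (hL : D L) {g : X ⟶ L} {v : L ⟶ W}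
    {w : W ⟶ X⟦(1 : ℤ)⟧} (hT : Triangle.mk g v w ∈ distTriang C) :
    D ((t.truncGE 0).obj W) := by
  let Q := (t.truncGE 0).obj W
  let π : W ⟶ Q := (t.truncGEπ 0).app W
  obtain ⟨I, i, k, hI⟩ := distinguished_cocone_triangle₁ (v ≫ π)
  have hLE : t.IsLE I 0 :=
    t.isLE₂ _ (someOctahedron' rfl hT (t.triangleLEGE_distinguished (-1) 0 rfl W) hI).mem 0
      (show t.IsLE X 0 by infer_instance) (show t.IsLE ((t.truncLE (-1)).obj W) 0 from t.isLE_truncLE_obj W (-1) 0)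
  have hGE : t.IsGE I 0 :=
    t.isGE₂ _ (inv_rot_of_distTriang _ hI) 0
      (show t.IsGE (Q⟦(-1 : ℤ)⟧) 0 from have := t.isGE_shift Q 0 (-1) 1; t.isGE_of_ge _ 0 1)
      (show t.IsGE L 0 by infer_instance)
  -- factor `I ⟶ L` through the degree zero part of `L`
  let L₀ := (t.truncLE 0).obj L
  have hL₀g : t.IsGE L₀ 0 := by
    have : t.IsGE ((t.truncLT 1).obj L) 0 := inferInstance
    exact this
  have hL₀ : D L₀ :=
    D.prop_of_iso ((asIso ((t.truncGEπ 0).app L₀)).symm) (h1 L hL 0)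
  have hT₀ := t.triangleLEGE_distinguished 0 1 rfl L
  obtain ⟨l, hl⟩ := Triangle.coyoneda_exact₂ _ hT₀ i
    (t.zero_of_isLE_of_isGE _ 0 1 (by omega) hLE (t.isGE_truncGE_obj L 1 1))
  obtain ⟨Q₀, p, r, hQ₀⟩ := distinguished_cocone_triangle (C := C) (X := I) (Y := L₀) l
  have hmem := (someOctahedron (show l ≫ (t.truncLEι 0).app L = i from hl.symm) hQ₀ hT₀ hI).mem
  have hQ₀LE : t.IsLE Q₀ 0 :=
    t.isLE₂ _ (rot_of_distTriang _ hQ₀) 0 (show t.IsLE L₀ 0 from t.isLE_truncLE_obj L 0 0)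
      (show t.IsLE (I⟦(1 : ℤ)⟧) 0 from have := t.isLE_shift I 0 1 (-1); t.isLE_of_le _ (-1) 0)
  have hQ₀GE : t.IsGE Q₀ 0 :=
    t.isGE₂ _ (inv_rot_of_distTriang _ hmem) 0
      (show t.IsGE (((t.truncGE 1).obj L)⟦(-1 : ℤ)⟧) 0 from
        have := t.isGE_shift ((t.truncGE 1).obj L) 1 (-1) 2; t.isGE_of_ge _ 0 2)
      (show t.IsGE Q 0 by infer_instance)
  obtain ⟨-, hD⟩ := h2 I L₀ Q₀ l p r hQ₀ (isGE_heart t hLE hGE)
    (isGE_heart t (t.isLE_truncLE_obj L 0 0) hL₀g) (isGE_heart t hQ₀LE hQ₀GE) hL₀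
  exact D.ext_of_isTriangulatedClosed₂ _ hmem hD (truncGE_mem t hb D h1 1 hL)

include hb h1 h2 in
/-- objects with a map to an object `≤ 0` with cone in `D` are `≤ 0` up to `D` -/
lemma exists_le_cover {X' X : C} [t.IsLE X 0] {s : X' ⟶ X} (hs : D.trW s) :
    ∃ (X₀ : C) (f : X₀ ⟶ X'⟦(1 : ℤ)⟧), t.IsLE X₀ (-1) ∧ D.trW f := by
  rw [D.trW_iff] at hs
  obtain ⟨K, g, h, hT, hK⟩ := hs
  have hM := rot_of_distTriang _ hT
  let L := (t.truncGE 0).obj K
  let π : K ⟶ L := (t.truncGEπ 0).app K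
  obtain ⟨W, v, w, hW⟩ := distinguished_cocone_triangle (g ≫ π)
  have hπ := rot_of_distTriang _ (t.triangleLEGE_distinguished (-1) 0 rfl K)
  have hmem := (someOctahedron (show g ≫ π = g ≫ π from rfl) hM hπ hW).mem
  obtain ⟨X₀, f, r, hX₀⟩ := distinguished_cocone_triangle₁
    ((someOctahedron (show g ≫ π = g ≫ π from rfl) hM hπ hW).m₁ ≫ (t.truncGEπ 0).app W)
  refine ⟨X₀, f, ?_, (D.trW_iff f).2 ⟨_, _, _, hX₀, truncGE_cone_mem t hb D h1 h2 (truncGE_mem t hb D h1 0 hK) hW⟩⟩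
  refine t.isLE₂ _ (someOctahedron' rfl (inv_rot_of_distTriang _ hmem)
    (t.triangleLEGE_distinguished (-1) 0 rfl W) hX₀).mem (-1) ?_ (t.isLE_truncLE_obj W (-1) (-1))
  change t.IsLE ((((t.truncLE (-1)).obj K)⟦(1 : ℤ)⟧)⟦(-1 : ℤ)⟧) (-1)
  have := t.isLE_truncLE_obj K (-1) (-1)
  have := t.isLE_shift ((t.truncLE (-1)).obj K) (-1) 1 (-2)
  exact t.isLE_shift _ (-2) (-1) (-1)

variable {E : Type u'} [Category.{v'} E] [Preadditive E] [HasZeroObject E] [HasShift E ℤ]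
  [∀ n : ℤ, (shiftFunctor E n).Additive] [Pretriangulated E]
  (q : C ⥤ E) [q.CommShift ℤ] [q.IsTriangulated] [q.IsLocalization D.trW]

include hb h1 h2 in
lemma map_eq_zero {X Y : C} [t.IsLE X 0] [t.IsGE Y 1] (φ : q.obj X ⟶ q.obj Y) : φ = 0 := by
  obtain ⟨r, rfl⟩ := Localization.exists_rightFraction q D.trW φ
  obtain ⟨X₀, f, hX₀, hf⟩ := exists_le_cover t hb D h1 h2 r.hs
  haveI : IsIso (q.map f) := Localization.inverts q D.trW f hf
  haveI : IsIso (q.map (f⟦(-1 : ℤ)⟧')) :=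
    (NatIso.isIso_map_iff (q.commShiftIso (-1 : ℤ)) f).2 (by dsimp; infer_instance)
  let e := (shiftFunctorCompIsoId C (1 : ℤ) (-1) (by omega)).app r.X'
  haveI := t.isLE_shift X₀ (-1) (-1) 0
  have h0 : (f⟦(-1 : ℤ)⟧' ≫ e.hom) ≫ r.f = 0 := t.zero _ 0 1
  haveI : IsIso (q.map (f⟦(-1 : ℤ)⟧' ≫ e.hom)) := by rw [Functor.map_comp]; infer_instance
  have h0' : q.map r.f = 0 := by
    rw [← cancel_epi (q.map (f⟦(-1 : ℤ)⟧' ≫ e.hom)), comp_zero, ← Functor.map_comp, h0, Functor.map_zero]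
  haveI := Localization.inverts q D.trW r.s r.hs
  rw [MorphismProperty.RightFraction.map, h0', comp_zero]

include hb h1 h2 in
/-- the induced t-structure on the quotient -/
theorem existsUnique_tStructure :
    ∃ t' : TStructure E, (∀ (X : C) (n : ℤ), t.IsLE X n → t'.IsLE (q.obj X) n) ∧
      (∀ (X : C) (n : ℤ), t.IsGE X n → t'.IsGE (q.obj X) n) ∧
      (∀ (Y : E) (n : ℤ), t'.IsLE Y n ↔ ∃ X : C, t.IsLE X n ∧ Nonempty (q.obj X ≅ Y)) ∧
      (∀ (Y : E) (n : ℤ), t'.IsGE Y n ↔ ∃ X : C, t.IsGE X n ∧ Nonempty (q.obj X ≅ Y)) ∧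
      ∀ t'' : TStructure E, (∀ (X : C) (n : ℤ), t.IsLE X n → t''.IsLE (q.obj X) n) →
        (∀ (X : C) (n : ℤ), t.IsGE X n → t''.IsGE (q.obj X) n) → t'' = t' := by
  haveI := Localization.essSurj q D.trW
  let le' : ℤ → ObjectProperty E := fun n Y => ∃ X : C, t.IsLE X n ∧ Nonempty (q.obj X ≅ Y)
  let ge' : ℤ → ObjectProperty E := fun n Y => ∃ X : C, t.IsGE X n ∧ Nonempty (q.obj X ≅ Y)
  let t' : TStructure E :=
  { le := le'
    ge := ge'
    le_isClosedUnderIsomorphisms := fun n => ⟨fun e ⟨X, hX, ⟨i⟩⟩ => ⟨X, hX, ⟨i ≪≫ e⟩⟩⟩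
    ge_isClosedUnderIsomorphisms := fun n => ⟨fun e ⟨X, hX, ⟨i⟩⟩ => ⟨X, hX, ⟨i ≪≫ e⟩⟩⟩
    le_shift := fun n a n' h Y ⟨X, _, ⟨i⟩⟩ =>
      ⟨X⟦a⟧, t.isLE_shift X n a n' h, ⟨(q.commShiftIso a).app X ≪≫ (shiftFunctor E a).mapIso i⟩⟩
    ge_shift := fun n a n' h Y ⟨X, _, ⟨i⟩⟩ =>
      ⟨X⟦a⟧, t.isGE_shift X n a n' h, ⟨(q.commShiftIso a).app X ≪≫ (shiftFunctor E a).mapIso i⟩⟩
    zero' := fun Y Z φ ⟨X, hX, ⟨i⟩⟩ ⟨X', hX', ⟨i'⟩⟩ => by
      have h0 := map_eq_zero t hb D h1 h2 q (i.hom ≫ φ ≫ i'.inv)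
      rw [← cancel_epi i.hom, ← cancel_mono i'.inv, comp_zero, zero_comp, assoc, h0]
    le_zero_le := fun Y ⟨X, _, hi⟩ => ⟨X, t.isLE_of_le X 0 1, hi⟩
    ge_one_le := fun Y ⟨X, _, hi⟩ => ⟨X, t.isGE_of_ge X 0 1, hi⟩
    exists_triangle_zero_one := fun Y => by
      let X := q.objPreimage Y
      let i := q.objObjPreimageIso Y
      have hT := q.map_distinguished _ (t.triangleLEGE_distinguished 0 1 rfl X)
      refine ⟨_, _, ⟨(t.truncLE 0).obj X, t.isLE_truncLE_obj X 0 0, ⟨Iso.refl _⟩⟩,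
        ⟨(t.truncGE 1).obj X, t.isGE_truncGE_obj X 1 1, ⟨Iso.refl _⟩⟩,
        q.map ((t.truncLEι 0).app X) ≫ i.hom, i.inv ≫ q.map ((t.truncGEπ 1).app X),
        q.map ((t.truncGEδLE 0 1 rfl).app X) ≫ (q.commShiftIso (1 : ℤ)).hom.app _, ?_⟩
      refine isomorphic_distinguished _ hT _
        (Triangle.isoMk _ _ (Iso.refl _) i.symm (Iso.refl _) ?_ ?_ ?_)
      all_goals first | (simp [X, i]; done) | (simp [X, i]; rfl) }
  have hle : ∀ (Y : E) (n : ℤ), t'.IsLE Y n ↔ le' n Y := fun Y n => ⟨fun h => h.le, fun h => ⟨h⟩⟩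
  have hge : ∀ (Y : E) (n : ℤ), t'.IsGE Y n ↔ ge' n Y := fun Y n => ⟨fun h => h.ge, fun h => ⟨h⟩⟩
  refine ⟨t', fun X n h => (hle _ n).2 ⟨X, h, ⟨Iso.refl _⟩⟩,
    fun X n h => (hge _ n).2 ⟨X, h, ⟨Iso.refl _⟩⟩, hle, hge, fun t'' hl hg => ?_⟩
  have hl' : ∀ (n : ℤ) (Y : E), t'.le n Y → t''.le n Y := fun n Y ⟨X, hX, ⟨i⟩⟩ =>
    (t''.le n).prop_of_iso i (hl X n hX).le
  have hg' : ∀ (n : ℤ) (Y : E), t'.ge n Y → t''.ge n Y := fun n Y ⟨X, hX, ⟨i⟩⟩ =>
    (t''.ge n).prop_of_iso i (hg X n hX).ge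
  have e₁ : t''.le = t'.le := by
    funext n
    ext Y
    refine ⟨fun hY => ?_, hl' n Y⟩
    obtain ⟨A, B, hA, hB, f, g, h, hT⟩ := t'.exists_triangle Y n (n + 1) rfl
    haveI : t''.IsLE Y n := ⟨hY⟩
    haveI : t''.IsLE A n := ⟨hl' n A hA⟩
    haveI : t''.IsGE B (n + 1) := ⟨hg' (n + 1) B hB⟩
    have hg0 : g = 0 := t''.zero g n (n + 1)
    obtain ⟨r, hr⟩ := Triangle.yoneda_exact₃ _ hT (𝟙 B) (by simp [hg0])
    haveI := t''.isLE_shift A n 1 (n - 1)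
    have hr0 : r = 0 := t''.zero_of_isLE_of_isGE r (n - 1) (n + 1) (by omega) this ‹t''.IsGE B (n + 1)›
    have hB0 : IsZero B := by
      rw [IsZero.iff_id_eq_zero]
      exact hr.trans (by rw [hr0, comp_zero])
    haveI : IsIso f := (Triangle.isZero₃_iff_isIso₁ _ hT).1 hB0
    haveI := t'.le_isClosedUnderIsomorphisms n
    exact (t'.le n).prop_of_iso (asIso f) hA
  have e₂ : t''.ge = t'.ge := by
    funext n
    ext Y
    refine ⟨fun hY => ?_, hg' n Y⟩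
    obtain ⟨A, B, hA, hB, f, g, h, hT⟩ := t'.exists_triangle Y (n - 1) n (by omega)
    haveI : t''.IsGE Y n := ⟨hY⟩
    haveI : t''.IsLE A (n - 1) := ⟨hl' (n - 1) A hA⟩
    haveI : t''.IsGE B n := ⟨hg' n B hB⟩
    have hf0 : f = 0 := t''.zero f (n - 1) n
    obtain ⟨r, hr⟩ := Triangle.coyoneda_exact₂ _ (inv_rot_of_distTriang _ hT) (𝟙 A) (by
      change 𝟙 A ≫ f = 0
      rw [hf0, comp_zero])
    haveI := t''.isGE_shift B n (-1) (n + 1)
    have hr0 : r = 0 := t''.zero_of_isLE_of_isGE r (n - 1) (n + 1) (by omega) ‹t''.IsLE A (n - 1)› this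
    have hA0 : IsZero A := by
      rw [IsZero.iff_id_eq_zero]
      exact hr.trans (by rw [hr0, zero_comp])
    haveI : IsIso g := (Triangle.isZero₁_iff_isIso₂ _ hT).1 hA0
    haveI := t'.ge_isClosedUnderIsomorphisms n
    exact (t'.ge n).prop_of_iso (asIso g).symm hB
  clear_value t'
  cases t''
  cases t'
  dsimp at e₁ e₂
  subst e₁ e₂
  rfl

end Groth.Agent.QuotT
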